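import Cfsg.Agent.Lib.helper17.TitsM.Stem2

/-! the words of the centralized presentation, level H (generated, helper17) -/

set_option autoImplicit false
set_option maxRecDepth 100000

namespace Cfsg.Agent.Lib.Helper17.TitsM.H.Pres

open Cfsg.Agent.Lib.Helper12.TC Cfsg.Agent.Lib.Helper12.TCG Cfsg.Agent.Lib.Helper17.TitsM

/-- a word of the presentation -/
def wS2 : List ℕ := [0, 0, 2, 2, 2]

/-- a word of the presentation -/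
def wS1 : List ℕ := [1, 3, 0, 3, 1, 3, 1, 3, 0, 3, 1, 3, 1, 3, 0, 2, 2, 0, 2, 2, 0, 2, 2, 0, 2, 2, 0, 2, 2, 1, 3]

/-- words of the presentation -/
def wCs : List (List ℕ × List ℕ) := [([0, 0], [2]), ([2, 2, 2], [0])]

/-- a word of the presentation -/
def wR3 : List ℕ := [0, 2, 2, 0, 3, 1, 3, 0, 3, 1, 3, 1, 2, 2, 1, 3, 0, 3, 0, 2, 2, 0, 2, 2, 1, 3, 0, 3, 1, 3]

/-- a word of the presentation -/
def wR4 : List ℕ := [1, 3, 0, 2, 1, 3, 0, 2, 1, 3, 0, 2, 1, 3, 0, 2, 1, 3, 0, 2, 1, 3, 0, 2]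

/-- a word of the presentation -/
def wR5 : List ℕ := [0, 3, 1, 3, 0, 2, 1, 2, 0, 3, 1, 3, 0, 2, 1, 2, 0, 3, 1, 3, 0, 2, 1, 2]

/-- the base words: the relators, the letters with their inverses, the empty word -/
def baseL : List (List ℕ) :=
  [[0, 0, 2, 2, 2],
   [1, 3, 0, 3, 1, 3, 1, 3, 0, 3, 1, 3, 1, 3, 0, 2, 2, 0, 2, 2, 0, 2, 2, 0, 2, 2, 0, 2, 2, 1, 3],
   [1, 1, 3, 0, 0, 2],
   [3, 3, 3, 1, 2, 2, 2, 0],
   [0, 2, 2, 0, 3, 1, 3, 0, 3, 1, 3, 1, 2, 2, 1, 3, 0, 3, 0, 2, 2, 0, 2, 2, 1, 3, 0, 3, 1, 3, 5],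
   [1, 3, 0, 2, 1, 3, 0, 2, 1, 3, 0, 2, 1, 3, 0, 2, 1, 3, 0, 2, 1, 3, 0, 2, 7],
   [0, 3, 1, 3, 0, 2, 1, 2, 0, 3, 1, 3, 0, 2, 1, 2, 0, 3, 1, 3, 0, 2, 1, 2, 9],
   [5, 1, 4, 0],
   [5, 3, 4, 2],
   [7, 1, 6, 0],
   [7, 3, 6, 2],
   [9, 1, 8, 0],
   [9, 3, 8, 2],
   [0, 1],
   [1, 0],
   [2, 3],
   [3, 2],
   [4, 5],
   [5, 4],
   [6, 7],
   [7, 6],
   [8, 9],
   [9, 8],
   []]

theorem baseL_eq : baseL = h17tmBase wS2 wS1 wCs wR3 wR4 wR5 := by decide +kernel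

/-- the element of order thirteen -/
def Xw : List ℕ := [0, 3]

/-- the element normalizing it -/
def Ww : List ℕ := [3, 0, 3, 0, 3, 0, 3, 0, 3, 0, 2, 0, 3, 0, 3, 0, 2, 0, 3, 0, 2]

/-- the subgroup words -/
def swL : List (List ℕ) := [h17tmCW Xw Ww]

end Cfsg.Agent.Lib.Helper17.TitsM.H.Pres
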