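import Cfsg.Agent.Lib.helper17.TitsM.H.Chk0
import Cfsg.Agent.Lib.helper17.TitsM.H.Chk1
import Cfsg.Agent.Lib.helper17.TitsM.H.Chk2
import Cfsg.Agent.Lib.helper17.TitsM.H.Chk3
import Cfsg.Agent.Lib.helper17.TitsM.H.Chk4
import Cfsg.Agent.Lib.helper17.TitsM.H.Chk5
import Cfsg.Agent.Lib.helper17.TitsM.H.Chk6
import Cfsg.Agent.Lib.helper17.TitsM.H.Chk7
import Cfsg.Agent.Lib.helper17.TitsM.H.Chk8
import Cfsg.Agent.Lib.helper17.TitsM.H.Chk9
import Cfsg.Agent.Lib.helper17.TitsM.H.Chk10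
import Cfsg.Agent.Lib.helper17.TitsM.H.Chk11
import Cfsg.Agent.Lib.helper17.TitsM.H.Chk12
import Cfsg.Agent.Lib.helper17.TitsM.H.Chk13
import Cfsg.Agent.Lib.helper17.TitsM.H.Chk14
import Cfsg.Agent.Lib.helper17.TitsM.H.Chk15
import Cfsg.Agent.Lib.helper17.TitsM.H.Chk16
import Cfsg.Agent.Lib.helper17.TitsM.H.Chk17
import Cfsg.Agent.Lib.helper17.TitsM.H.Chk18
import Cfsg.Agent.Lib.helper17.TitsM.H.Chk19
import Cfsg.Agent.Lib.helper17.TitsM.H.Chk20
import Cfsg.Agent.Lib.helper17.TitsM.H.Chk21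
import Cfsg.Agent.Lib.helper17.TitsM.H.Chk22
import Cfsg.Agent.Lib.helper17.TitsM.H.Chk23
import Cfsg.Agent.Lib.helper17.TitsM.H.Chk24
import Cfsg.Agent.Lib.helper17.TitsM.H.Chk25
import Cfsg.Agent.Lib.helper17.TitsM.H.Chk26
import Cfsg.Agent.Lib.helper17.TitsM.H.Chk27
import Cfsg.Agent.Lib.helper17.TitsM.H.Chk28
import Cfsg.Agent.Lib.helper17.TitsM.H.Chk29
import Cfsg.Agent.Lib.helper17.TitsM.H.Chk30
import Cfsg.Agent.Lib.helper17.TitsM.H.Chk31
import Cfsg.Agent.Lib.helper17.TitsM.H.Chk32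
import Cfsg.Agent.Lib.helper17.TitsM.H.Chk33
import Cfsg.Agent.Lib.helper17.TitsM.H.Chk34
import Cfsg.Agent.Lib.helper17.TitsM.H.Chk35
import Cfsg.Agent.Lib.helper17.TitsM.H.Chk36
import Cfsg.Agent.Lib.helper17.TitsM.H.Chk37
import Cfsg.Agent.Lib.helper17.TitsM.H.Chk38
import Cfsg.Agent.Lib.helper17.TitsM.H.Chk39
import Cfsg.Agent.Lib.helper17.TitsM.H.Chk40
import Cfsg.Agent.Lib.helper17.TitsM.H.Chk41
import Cfsg.Agent.Lib.helper17.TitsM.H.Chk42
import Cfsg.Agent.Lib.helper17.TitsM.H.Chk43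
import Cfsg.Agent.Lib.helper17.TitsM.H.Chk44
import Cfsg.Agent.Lib.helper17.TitsM.H.Chk45
import Cfsg.Agent.Lib.helper17.TitsM.H.Chk46
import Cfsg.Agent.Lib.helper17.TitsM.H.Chk47
import Cfsg.Agent.Lib.helper17.TitsM.H.Chk48
import Cfsg.Agent.Lib.helper17.TitsM.H.Chk49
import Cfsg.Agent.Lib.helper17.TitsM.H.Fin
import Cfsg.Agent.Lib.helper3.TCUpper

/-! the bound for the index (generated, helper17) -/

set_option autoImplicit false
set_option maxRecDepth 100000
set_option linter.unusedSimpArgs false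

namespace Cfsg.Agent.Lib.Helper17.TitsM.H

open Cfsg.Agent.Lib.Helper12.TC Cfsg.Agent.Lib.Helper12.TCG Cfsg.Agent.Lib.Helper17.TitsM.H.Pres

/-- the chunks of the certificate -/
def chunks : List (ℕ × List ℕ) :=
  [(30033, c0), (32033, c1), (34033, c2), (36033, c3), (38033, c4), (40033, c5), (42033, c6), (44033, c7), (46033, c8), (48033, c9), (50033, c10), (52033, c11), (54033, c12), (56033, c13), (58033, c14), (60033, c15), (62033, c16), (64033, c17), (66033, c18), (68033, c19), (70033, c20), (72033, c21), (74033, c22), (76033, c23), (78033, c24), (80033, c25), (82033, c26), (84033, c27), (86033, c28), (88033, c29), (90033, c30), (92033, c31), (94033, c32), (96033, c33), (98033, c34), (100033, c35), (102033, c36), (104033, c37), (106033, c38), (108033, c39), (110033, c40), (112033, c41), (114033, c42), (116033, c43), (118033, c44), (120033, c45), (122033, c46), (124033, c47), (126033, c48), (128033, c49)]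

theorem hcover : coverK cD cK chunks = true := by decide +kernel

theorem hchunks : ∀ c ∈ chunks, chunkG cIV F RW cR0 c.2 c.1 = true := by
  unfold chunks
  simp only [List.forall_mem_cons, List.not_mem_nil, false_imp_iff, implies_true, and_true]
  exact ⟨chunk0, chunk1, chunk2, chunk3, chunk4, chunk5, chunk6, chunk7, chunk8, chunk9, chunk10, chunk11, chunk12, chunk13, chunk14, chunk15, chunk16, chunk17, chunk18, chunk19, chunk20, chunk21, chunk22, chunk23, chunk24, chunk25, chunk26, chunk27, chunk28, chunk29, chunk30, chunk31, chunk32, chunk33, chunk34, chunk35, chunk36, chunk37, chunk38, chunk39, chunk40, chunk41, chunk42, chunk43, chunk44, chunk45, chunk46, chunk47, chunk48, chunk49⟩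

end Cfsg.Agent.Lib.Helper17.TitsM.H
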