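import Cfsg.Agent.Lib.helper17.TitsM.H.Tab
import Cfsg.Agent.Lib.helper17.TitsM.H.FinRecs

/-! the final table, part 0 (generated, helper17) -/

set_option autoImplicit false
set_option maxRecDepth 100000

namespace Cfsg.Agent.Lib.Helper17.TitsM.H

open Cfsg.Agent.Lib.Helper12.TC Cfsg.Agent.Lib.Helper12.TCG

theorem hfin_0 : allListK fr0 (fun rec => finRecG cIV F LIVE cK 10 rec) = true := by decide +kernel

theorem hlive_0 : Nat.beq (liveK fr0) LIVE0 = true := by decide +kernel

end Cfsg.Agent.Lib.Helper17.TitsM.H
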